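import Cfsg.Agent.H100.Ppd.Basic
import Cfsg.Agent.H203.OrthHeis
import Cfsg.Agent.H912.MultChar
import Cfsg.Agent.H95.LSx.O73
import Cfsg.Agent.S0292
import Cfsg.Agent.S0293
import Cfsg.Agent.S0294
import Cfsg.Agent.S0816
import Cfsg.Agent.S0817
import Cfsg.Agent.S0818

/-!
# TEAM PPD (S5948), task PPD-B-orth: the orthogonal groups in cross characteristic (helper194)

`row_podd`, `row_pplus`, `row_pminus`.
-/

set_option autoImplicit false
set_option linter.unusedSectionVars false

namespace Cfsg.Agent.H194.Ppd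

open Cfsg Cfsg.Agent.H100.Ppd Cfsg.Agent.H915.LD

universe u

/-! ### Numbers -/

/-- a prime divisor of `q ^ (2 j) - 1` is at most `q ^ j + 1` -/
theorem le_of_dvd_sq {r q j : ℕ} (hr : r.Prime) (hq : 2 ≤ q) (hj : 1 ≤ j) (h : r ∣ q ^ (2 * j) - 1) :
    r ≤ q ^ j + 1 := by
  have h1 : q ^ (2 * j) - 1 = (q ^ j + 1) * (q ^ j - 1) := by
    have := Nat.sq_sub_sq (q ^ j) 1
    rw [one_pow, ← pow_mul, mul_comm j 2] at this
    exact this
  have h2 : 1 < q ^ j := Nat.one_lt_pow (by omega) (by omega)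
  rw [h1] at h
  rcases hr.dvd_mul.1 h with h3 | h3
  · exact Nat.le_of_dvd (by omega) h3
  · have := Nat.le_of_dvd (by omega) h3
    omega

/-- an odd prime divisor of `q ^ (2 j) - 1`, `q` odd, is at most `(q ^ j + 1) / 2` -/
theorem two_mul_le_of_dvd_sq {r q j : ℕ} (hr : r.Prime) (hr2 : r ≠ 2) (hq : 2 ≤ q) (ho : Odd q) (hj : 1 ≤ j)
    (h : r ∣ q ^ (2 * j) - 1) : 2 * r ≤ q ^ j + 1 := by
  have h1 : q ^ (2 * j) - 1 = (q ^ j + 1) * (q ^ j - 1) := by
    have := Nat.sq_sub_sq (q ^ j) 1
    rw [one_pow, ← pow_mul, mul_comm j 2] at this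
    exact this
  have h2 : 1 < q ^ j := Nat.one_lt_pow (by omega) (by omega)
  have ho' : Odd (q ^ j) := ho.pow
  have hcop : Nat.Coprime 2 r := by
    rw [Nat.coprime_primes Nat.prime_two hr]
    exact fun h => hr2 h.symm
  obtain ⟨c, hc⟩ := ho'
  rw [h1] at h
  rcases hr.dvd_mul.1 h with h3 | h3
  · exact Nat.le_of_dvd (by omega) (hcop.mul_dvd_of_dvd_of_dvd ⟨c + 1, by omega⟩ h3)
  · have := Nat.le_of_dvd (by omega) (hcop.mul_dvd_of_dvd_of_dvd ⟨c, by omega⟩ h3)
    omega

theorem le_of_dvd_prod {r q k m : ℕ} (hr : r.Prime) (hq : 2 ≤ q) (hk : k ≤ m)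
    (h : r ∣ ∏ i ∈ Finset.range k, (q ^ (2 * (i + 1)) - 1)) : r ≤ q ^ m + 1 := by
  rw [Prime.dvd_finsetProd_iff hr.prime] at h
  obtain ⟨i, hi, h1⟩ := h
  rw [Finset.mem_range] at hi
  have h2 := le_of_dvd_sq hr hq (by omega) h1
  have h3 : q ^ (i + 1) ≤ q ^ m := Nat.pow_le_pow_right (by omega) (by omega)
  omega

theorem two_mul_le_of_dvd_prod {r q k m : ℕ} (hr : r.Prime) (hr2 : r ≠ 2) (hq : 2 ≤ q) (ho : Odd q) (hk : k ≤ m)
    (h : r ∣ ∏ i ∈ Finset.range k, (q ^ (2 * (i + 1)) - 1)) : 2 * r ≤ q ^ m + 1 := by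
  rw [Prime.dvd_finsetProd_iff hr.prime] at h
  obtain ⟨i, hi, h1⟩ := h
  rw [Finset.mem_range] at hi
  have h2 := two_mul_le_of_dvd_sq hr hr2 hq ho (by omega) h1
  have h3 : q ^ (i + 1) ≤ q ^ m := Nat.pow_le_pow_right (by omega) (by omega)
  omega

/-- a prime divisor of `q` is at most `q ^ m + 1` -/
theorem le_of_dvd_q {r q N m : ℕ} (hr : r.Prime) (hq : 2 ≤ q) (hm : 1 ≤ m) (h : r ∣ q ^ N) : r ≤ q ^ m + 1 := by
  have h1 := Nat.le_of_dvd (by omega) (hr.dvd_of_dvd_pow h)
  have h2 : q ^ 1 ≤ q ^ m := Nat.pow_le_pow_right (by omega) hm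
  rw [pow_one] at h2
  omega

/-- a divisor of `f` is at most `q`, `q = t ^ f` -/
theorem le_of_dvd_f {r q t f : ℕ} (ht : 2 ≤ t) (hf : 1 ≤ f) (hq : q = t ^ f) (h : r ∣ f) : r ≤ q := by
  have h1 := Nat.le_of_dvd hf h
  have h2 : f < 2 ^ f := Nat.lt_two_pow_self
  have h3 : 2 ^ f ≤ t ^ f := Nat.pow_le_pow_left ht f
  omega

/-- the basic inequality -/
theorem two_mul_le {q m k : ℕ} (hq : 3 ≤ q) (hk : m ≤ k) : 2 * q ^ m ≤ (q - 1) * q ^ k :=
  Nat.mul_le_mul (by omega) (Nat.pow_le_pow_right (by omega) hk)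

theorem exists_pow {t : ℕ} (ht : t.Prime) {K : Type} [Field K] [Fintype K] [CharP K t] :
    ∃ f : ℕ, 1 ≤ f ∧ Fintype.card K = t ^ f := by
  have := Fact.mk ht
  obtain ⟨n, -, hn⟩ := FiniteField.card K t
  exact ⟨n, n.pos, hn⟩

variable {n : ℕ} {F : Type u} [Field F] [Finite F] {k m : ℕ} {P : Subgroup (GL (Fin n) F)}

/-- the bound in terms of `Bd` and `NoR` -/
theorem bound {T : Type} [Group T] (h : Row k m P) (e : Soc P ≃* T) {t D : ℕ} (hno : H912.Bd.NoR.{u} t T)
    (hB : H912.Bd.Bd F t D T) : D ≤ n :=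
  hB n (H912.Bd.PR.of_noR hno P h.core.perfect e)

/-! ### The rows -/

/-- **`PΩ_{2N+1}(s)`, `s` odd.** -/
theorem row_podd {t : ℕ} (ht : t.Prime) (htF : (t : F) ≠ 0) {K : Type} [Field K] [Fintype K] [CharP K t] {N : ℕ}
    (hN : 3 ≤ N) (ho : Odd (Fintype.card K)) (h : Row k m P) (e : Soc P ≃* POmega K (quadFormOdd N K)) : False := by
  obtain ⟨f, hf1, hf⟩ := exists_pow ht (K := K)
  have hfact := Fact.mk ht
  have hq1 : 1 < Fintype.card K := Fintype.one_lt_card
  have hq3 : 3 ≤ Fintype.card K := by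
    obtain ⟨k, hk⟩ := ho
    omega
  have hto : Odd t := by
    rw [hf] at ho
    exact Odd.of_dvd_nat ho (dvd_pow_self t (by omega))
  have hord := S0292.result (F := K) rfl ho N hN
  have haut := S0816.result (F := K) t f hf1 hf hto N hN
  have hdvd := h.dvd_card e
  rw [haut] at hdvd
  by_cases hexc : N = 3 ∧ Fintype.card K = 3
  · obtain ⟨rfl, hK⟩ := hexc
    have ht3 : t = 3 := by
      have h1 : t ∣ 3 := by
        rw [← hK, hf]
        exact dvd_pow_self t (by omega)
      exact (Nat.prime_dvd_prime_iff_eq ht Nat.prime_three).1 h1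
    subst ht3
    have hf' : f = 1 := by
      rw [hK] at hf
      have : 3 ^ 1 = 3 ^ f := by rw [pow_one]; exact hf
      exact (Nat.pow_right_injective (by norm_num) this).symm
    subst hf'
    have hn : Nat.card (POmega K (quadFormOdd 3 K)) = 4585351680 := by
      rw [hK] at hord
      norm_num [Finset.prod_range_succ] at hord
      omega
    have hD : 26 ≤ n := h.le_of_ls e htF (H95.LSx.ls_o73 hK)
    rw [hn] at hdvd
    obtain ⟨r, hr, hrm⟩ := h.num.exists_prime
    have h1 := h.num.succ_le hr hrm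
    have h2 := h.num.nlt
    have h3 : r ∣ 2 ^ 10 * 3 ^ 9 * 5 * 7 * 13 := by
      have := hrm.trans hdvd
      norm_num at this ⊢
      exact this
    have h4 : r ≤ 13 := by
      rcases hr.dvd_mul.1 h3 with h3 | h3
      · rcases hr.dvd_mul.1 h3 with h3 | h3
        · rcases hr.dvd_mul.1 h3 with h3 | h3
          · rcases hr.dvd_mul.1 h3 with h3 | h3
            · have := Nat.le_of_dvd (by norm_num) (hr.dvd_of_dvd_pow h3); omega
            · have := Nat.le_of_dvd (by norm_num) (hr.dvd_of_dvd_pow h3); omega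
          · have := Nat.le_of_dvd (by norm_num) h3; omega
        · have := Nat.le_of_dvd (by norm_num) h3; omega
      · exact Nat.le_of_dvd (by norm_num) h3
    omega
  · have hno : H912.Bd.NoR.{u} t (POmega K (quadFormOdd N K)) := by
      refine H912.Bd.NoR.of_cyclic (S2094.result (F := K) rfl ho N hN hexc) ?_
      rw [Nat.coprime_two_left]
      exact hto
    have h2K : (2 : K) ≠ 0 := by
      intro h0
      have h1 : t ∣ 2 := (CharP.cast_eq_zero_iff K t 2).1 (by exact_mod_cast h0)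
      have h2 : t = 2 := (Nat.prime_dvd_prime_iff_eq ht Nat.prime_two).1 h1
      rw [h2] at hto
      exact absurd hto (by decide)
    have hD := bound h e hno (H203.OrthHeis.bd_pomega_odd_heis ht htF hf h2K hN)
    have h1 := two_mul_le hq3 (show N ≤ 2 * N - 3 by omega)
    obtain ⟨r, hr, hrm⟩ := h.num.exists_prime
    have h7 := h.num.seven_le hr hrm
    have hrn := h.num.le_two_mul hr hrm
    have hqN : Fintype.card K ^ 3 ≤ Fintype.card K ^ N := Nat.pow_le_pow_right (by omega) hN
    have hq3' : 2 * Fintype.card K ≤ Fintype.card K ^ 3 := by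
      have h3 : 2 * Fintype.card K ≤ Fintype.card K * Fintype.card K := Nat.mul_le_mul_right _ (by omega)
      have h4 : Fintype.card K * Fintype.card K * 1 ≤ Fintype.card K * Fintype.card K * Fintype.card K :=
        Nat.mul_le_mul_left _ (by omega)
      have h5 : Fintype.card K ^ 3 = Fintype.card K * Fintype.card K * Fintype.card K := by ring
      omega
    have h2 : 2 * r ≤ Fintype.card K ^ N + 1 := by
      have h3 : r ∣ f * (Fintype.card K ^ (N ^ 2) * ∏ i ∈ Finset.range N, (Fintype.card K ^ (2 * (i + 1)) - 1)) := by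
        rw [← hord]
        refine (hrm.trans hdvd).trans ⟨1, by ring⟩
      rcases hr.dvd_mul.1 h3 with h4 | h4
      · have := le_of_dvd_f ht.two_le hf1 hf h4
        omega
      · rcases hr.dvd_mul.1 h4 with h5 | h5
        · have := Nat.le_of_dvd (by omega) (hr.dvd_of_dvd_pow h5)
          omega
        · exact two_mul_le_of_dvd_prod hr (by omega) (by omega) ho le_rfl h5
    omega

/-- the bound `(q - 1) q ^ (2 N - 4) ≤ n` against `n + 3 ≤ 2 r`, `r ≤ q ^ N + 1` -/
theorem num_even {q N n r : ℕ} (hq : 2 ≤ q) (hN : 4 ≤ N) (hD : (q - 1) * q ^ (2 * N - 4) ≤ n) (hnr : n + 3 ≤ 2 * r)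
    (hr : r ≤ q ^ N + 1) : q = 2 ∧ N = 4 := by
  by_cases h3 : 3 ≤ q
  · exfalso
    have h1 := two_mul_le h3 (show N ≤ 2 * N - 4 by omega)
    omega
  · have hq2 : q = 2 := by omega
    subst hq2
    norm_num at hD
    by_cases h5 : 5 ≤ N
    · exfalso
      have h1 : 2 ^ (N + 1) ≤ 2 ^ (2 * N - 4) := Nat.pow_le_pow_right (by norm_num) (by omega)
      rw [pow_succ] at h1
      omega
    · exact ⟨rfl, by omega⟩

/-- primes `≥ 7` dividing a small number times something -/
theorem dvd_of_small {r c a : ℕ} (hr : r.Prime) (h7 : 7 ≤ r) (hc : c ∈ ({2, 4, 6, 8, 12, 24} : Finset ℕ))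
    (h : r ∣ c * a) : r ∣ a := by
  rcases hr.dvd_mul.1 h with h1 | h1
  · exfalso
    have h2 : r ∣ 2 ^ 3 * 3 := by
      refine h1.trans ?_
      simp only [Finset.mem_insert, Finset.mem_singleton] at hc
      rcases hc with rfl | rfl | rfl | rfl | rfl | rfl <;> norm_num
    rcases hr.dvd_mul.1 h2 with h3 | h3
    · have := Nat.le_of_dvd (by norm_num) (hr.dvd_of_dvd_pow h3)
      omega
    · have := Nat.le_of_dvd (by norm_num) h3
      omega
  · exact h1

/-- **`PΩ⁺_{2N}(s)`.** -/
theorem row_pplus {t : ℕ} (ht : t.Prime) (htF : (t : F) ≠ 0) {K : Type} [Field K] [Fintype K] [CharP K t] {N : ℕ}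
    (hN : 4 ≤ N) (h : Row k m P) (e : Soc P ≃* POmega K (quadFormPlus N K)) : False := by
  obtain ⟨f, hf1, hf⟩ := exists_pow ht (K := K)
  have hfact := Fact.mk ht
  have hq1 : 1 < Fintype.card K := Fintype.one_lt_card
  have hord := S0293.result (F := K) rfl N hN
  have haut := S0817.result (F := K) t f hf1 hf N hN
  have hdvd := h.dvd_card e
  by_cases hexc : N = 4 ∧ Fintype.card K = 2
  · obtain ⟨rfl, hK⟩ := hexc
    have ht2 : t = 2 := by
      have h1 : t ∣ 2 := by
        rw [← hK, hf]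
        exact dvd_pow_self t (by omega)
      exact (Nat.prime_dvd_prime_iff_eq ht Nat.prime_two).1 h1
    subst ht2
    have hf' : f = 1 := by
      rw [hK] at hf
      have : 2 ^ 1 = 2 ^ f := by rw [pow_one]; exact hf
      exact (Nat.pow_right_injective (le_refl 2) this).symm
    subst hf'
    have hn : Nat.card (POmega K (quadFormPlus 4 K)) = 174182400 := by
      rw [hK] at hord
      norm_num [Finset.prod_range_succ] at hord
      omega
    rw [hn] at haut
    norm_num at haut
    have h6 := h.num.six_le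
    refine h.kill e (N := 1045094400) (haut ▸ dvd_rfl) (r₀ := 7) (by omega) ?_ (by norm_num)
    intro r hr hrd hkr hkr'
    have h3 : r ∣ 2 ^ 13 * 3 ^ 6 * 5 ^ 2 * 7 := by
      norm_num
      exact hrd
    rcases hr.dvd_mul.1 h3 with h3 | h3
    · exfalso
      rcases hr.dvd_mul.1 h3 with h3 | h3
      · rcases hr.dvd_mul.1 h3 with h3 | h3
        · have := Nat.le_of_dvd (by norm_num) (hr.dvd_of_dvd_pow h3); omega
        · have := Nat.le_of_dvd (by norm_num) (hr.dvd_of_dvd_pow h3); omega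
      · have := Nat.le_of_dvd (by norm_num) (hr.dvd_of_dvd_pow h3); omega
    · exact (Nat.prime_dvd_prime_iff_eq hr (by norm_num)).1 h3
  · have hno : H912.Bd.NoR.{u} t (POmega K (quadFormPlus N K)) := by
      have hd0 : t ∣ Fintype.card K := H912.Bd.char_dvd_card K
      have hdm : t ∣ Fintype.card K ^ N := dvd_pow hd0 (by omega)
      have hpos : 0 < Fintype.card K ^ N := pow_pos Fintype.card_pos _
      rcases Nat.even_or_odd N with hev | hod
      · refine H912.Bd.NoR.of_mult (S2097.result (F := K) rfl N hN hev hexc) ?_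
        rw [Nat.card_congr Multiplicative.toAdd, Nat.card_prod, Nat.card_zmod]
        have h1 : (Nat.gcd 2 (Fintype.card K ^ N - 1)).Coprime t := H912.Bd.coprime_gcd_sub ht hpos hdm
        exact Nat.Coprime.mul_left h1 h1
      · have h5 : 5 ≤ N := by
          by_contra hcon
          have h4 : N = 4 := by omega
          rw [h4] at hod
          exact absurd hod (by decide)
        exact H912.Bd.NoR.of_cyclic (S2096.result (F := K) rfl N h5 hod)
          (H912.Bd.coprime_gcd_sub ht hpos hdm)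
    have hD := bound h e hno (H203.OrthHeis.bd_pomega_plus_heis ht htF hf hN)
    obtain ⟨r, hr, hrm⟩ := h.num.exists_prime
    have h7 := h.num.seven_le hr hrm
    have hrn := h.num.le_two_mul hr hrm
    have hq1N : Fintype.card K ^ 1 ≤ Fintype.card K ^ N := Nat.pow_le_pow_right (by omega) (by omega)
    rw [pow_one] at hq1N
    have h2 : r ≤ Fintype.card K ^ N + 1 := by
      have h3 : r ∣ f * (Fintype.card K ^ (N * (N - 1)) * (Fintype.card K ^ N - 1) *
          ∏ i ∈ Finset.range (N - 1), (Fintype.card K ^ (2 * (i + 1)) - 1)) := by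
        rw [← hord, mul_left_comm]
        refine Dvd.dvd.mul_left ?_ _
        rw [haut, mul_assoc] at hdvd
        refine dvd_of_small hr h7 ?_ (hrm.trans hdvd)
        split_ifs <;> simp
      have h5 : 1 < Fintype.card K ^ N := Nat.one_lt_pow (by omega) hq1
      rcases hr.dvd_mul.1 h3 with h4 | h4
      · have := le_of_dvd_f ht.two_le hf1 hf h4
        omega
      · rcases hr.dvd_mul.1 h4 with h4 | h4
        · rcases hr.dvd_mul.1 h4 with h4 | h4
          · exact le_of_dvd_q hr (by omega) (by omega) h4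
          · have := Nat.le_of_dvd (by omega) h4
            omega
        · exact le_of_dvd_prod hr (by omega) (by omega) h4
    obtain ⟨h3, h4⟩ := num_even (by omega) hN hD hrn h2
    exact hexc ⟨h4, h3⟩

/-- **`PΩ⁻_{2N}(s)`.** -/
theorem row_pminus {t : ℕ} (ht : t.Prime) (htF : (t : F) ≠ 0) {K : Type} [Field K] [Fintype K] [CharP K t] {N : ℕ}
    (hN : 4 ≤ N) (a b : K) (hab : ∀ z₁ z₂ : K, z₁ ^ 2 + a * z₁ * z₂ + b * z₂ ^ 2 = 0 → z₁ = 0 ∧ z₂ = 0)
    (h : Row k m P) (e : Soc P ≃* POmega K (quadFormMinus (N - 1) K a b)) : False := by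
  obtain ⟨f, hf1, hf⟩ := exists_pow ht (K := K)
  have hfact := Fact.mk ht
  have hq1 : 1 < Fintype.card K := Fintype.one_lt_card
  have hord := S0294.result (F := K) rfl N hN a b hab
  have haut := S0818.result (F := K) t f hf1 hf N hN a b hab
  have hdvd := h.dvd_card e
  have hno : H912.Bd.NoR.{u} t (POmega K (quadFormMinus (N - 1) K a b)) :=
    H912.Bd.noR_omega_minus.{u} ht (T := POmega K (quadFormMinus (N - 1) K a b)) ⟨K, inferInstance, inferInstance,
        inferInstance, N, a, b, hN, hab, ⟨MulEquiv.refl _⟩⟩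
  have hD := bound h e hno (H203.OrthHeis.bd_pomega_minus_heis ht htF hf hN hab)
  have key : Fintype.card K = 2 ∧ N = 4 := by
    obtain ⟨r, hr, hrm⟩ := h.num.exists_prime
    have h7 := h.num.seven_le hr hrm
    have hrn := h.num.le_two_mul hr hrm
    have hq1N : Fintype.card K ^ 1 ≤ Fintype.card K ^ N := Nat.pow_le_pow_right (by omega) (by omega)
    rw [pow_one] at hq1N
    have h2 : r ≤ Fintype.card K ^ N + 1 := by
      have h3 : r ∣ f * (Fintype.card K ^ (N * (N - 1)) * (Fintype.card K ^ N + 1) *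
          ∏ i ∈ Finset.range (N - 1), (Fintype.card K ^ (2 * (i + 1)) - 1)) := by
        rw [← hord, mul_left_comm]
        refine Dvd.dvd.mul_left ?_ _
        rw [haut, mul_assoc] at hdvd
        refine dvd_of_small hr h7 ?_ (hrm.trans hdvd)
        split_ifs <;> simp
      rcases hr.dvd_mul.1 h3 with h4 | h4
      · have := le_of_dvd_f ht.two_le hf1 hf h4
        omega
      · rcases hr.dvd_mul.1 h4 with h4 | h4
        · rcases hr.dvd_mul.1 h4 with h4 | h4
          · exact le_of_dvd_q hr (by omega) (by omega) h4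
          · exact Nat.le_of_dvd (by omega) h4
        · exact le_of_dvd_prod hr (by omega) (by omega) h4
    exact num_even (by omega) hN hD hrn h2
  obtain ⟨hK, rfl⟩ := key
  have ht2 : t = 2 := by
    have h1 : t ∣ 2 := by
      rw [← hK, hf]
      exact dvd_pow_self t (by omega)
    exact (Nat.prime_dvd_prime_iff_eq ht Nat.prime_two).1 h1
  subst ht2
  have hf' : f = 1 := by
    rw [hK] at hf
    have : 2 ^ 1 = 2 ^ f := by rw [pow_one]; exact hf
    exact (Nat.pow_right_injective (le_refl 2) this).symm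
  subst hf'
  have hn : Nat.card (POmega K (quadFormMinus (4 - 1) K a b)) = 197406720 := by
    rw [hK] at hord
    norm_num [Finset.prod_range_succ] at hord
    omega
  rw [hn] at haut
  norm_num at haut
  rw [hK] at hD
  norm_num at hD
  have h6 := h.num.nlt
  refine h.kill e (N := 394813440) (haut ▸ dvd_rfl) (r₀ := 17) (by omega) ?_ (by norm_num)
  intro r hr hrd hkr hkr'
  have h3 : r ∣ 2 ^ 13 * 3 ^ 4 * 5 * 7 * 17 := by
    norm_num
    exact hrd
  rcases hr.dvd_mul.1 h3 with h3 | h3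
  · exfalso
    rcases hr.dvd_mul.1 h3 with h3 | h3
    · rcases hr.dvd_mul.1 h3 with h3 | h3
      · rcases hr.dvd_mul.1 h3 with h3 | h3
        · have := Nat.le_of_dvd (by norm_num) (hr.dvd_of_dvd_pow h3); omega
        · have := Nat.le_of_dvd (by norm_num) (hr.dvd_of_dvd_pow h3); omega
      · have := Nat.le_of_dvd (by norm_num) h3; omega
    · have := Nat.le_of_dvd (by norm_num) h3; omega
  · exact (Nat.prime_dvd_prime_iff_eq hr (by norm_num)).1 h3

end Cfsg.Agent.H194.Ppd
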